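import Groth.Agent.H7Hopf.ReflexiveHull

/-!
Matrix corepresentations from finitely generated subcomodules.
-/

set_option autoImplicit false
set_option linter.style.haveILetI false
universe u

open TensorProduct Coalgebra

namespace Groth.Agent.H7Hopf

variable {R : Type u} [CommRing R] {A : Type u}

section Coalg

variable [AddCommGroup A] [Module R A] [Coalgebra R A]

/-- A right coaction: coassociative and counital. -/
structure IsCoaction {M : Type u} [AddCommGroup M] [Module R M] (ρ : M →ₗ[R] M ⊗[R] A) : Prop where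
  coassoc : (TensorProduct.assoc R M A A).toLinearMap ∘ₗ ρ.rTensor A ∘ₗ ρ =
    (comul (R := R)).lTensor M ∘ₗ ρ
  counit : (TensorProduct.rid R M).toLinearMap ∘ₗ (counit (R := R) (A := A)).lTensor M ∘ₗ ρ =
    LinearMap.id

theorem assoc_comp_rTensor_rTensor {M M' : Type u} [AddCommGroup M] [Module R M] [AddCommGroup M']
    [Module R M'] (f : M →ₗ[R] M') :
    (TensorProduct.assoc R M' A A).toLinearMap ∘ₗ (f.rTensor A).rTensor A =
      f.rTensor (A ⊗[R] A) ∘ₗ (TensorProduct.assoc R M A A).toLinearMap := by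
  ext m a b; rfl

theorem comul_lTensor_comp_rTensor {M M' : Type u} [AddCommGroup M] [Module R M] [AddCommGroup M']
    [Module R M'] (f : M →ₗ[R] M') :
    (comul (R := R) (A := A)).lTensor M' ∘ₗ f.rTensor A =
      f.rTensor (A ⊗[R] A) ∘ₗ (comul (R := R) (A := A)).lTensor M := by
  ext m a; rfl

theorem rid_counit_comp_rTensor {M M' : Type u} [AddCommGroup M] [Module R M] [AddCommGroup M']
    [Module R M'] (f : M →ₗ[R] M') :
    ((TensorProduct.rid R M').toLinearMap ∘ₗ (counit (R := R) (A := A)).lTensor M') ∘ₗ f.rTensor A =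
      f ∘ₗ (TensorProduct.rid R M).toLinearMap ∘ₗ (counit (R := R) (A := A)).lTensor M := by
  ext m a; simp

variable [Module.Flat R A] [IsNoetherianRing R]

/-- Every finite set is contained in a finitely generated subcomodule. -/
theorem exists_subcomodule (F : Finset A) : ∃ (N : Submodule R A) (ρ : N →ₗ[R] N ⊗[R] A),
    N.FG ∧ (↑F : Set A) ⊆ N ∧ N.subtype.rTensor A ∘ₗ ρ = comul ∘ₗ N.subtype ∧ IsCoaction ρ := by
  classical
  have hs : ∀ f : A, ∃ S : Finset (A × A), comul (R := R) f = S.sum fun i => i.1 ⊗ₜ[R] i.2 :=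
    fun f => TensorProduct.exists_finset _
  choose S hS using hs
  let N0 : Submodule R A := Submodule.span R ↑(F.biUnion fun f => (S f).image Prod.fst)
  have hN0 : N0.FG := Submodule.fg_span (Finset.finite_toSet _)
  let ψ : A →ₗ[R] (A ⧸ N0) ⊗[R] A := N0.mkQ.rTensor A ∘ₗ comul
  let N := LinearMap.ker ψ
  have hFN : (↑F : Set A) ⊆ N := fun f hf => by
    show N0.mkQ.rTensor A (comul f) = 0
    rw [hS f, map_sum]
    refine Finset.sum_eq_zero fun i hi => ?_
    rw [LinearMap.rTensor_tmul, show N0.mkQ i.1 = 0 from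
      (Submodule.Quotient.mk_eq_zero _).2 (Submodule.subset_span
        (Finset.mem_biUnion.2 ⟨f, hf, Finset.mem_image.2 ⟨i, hi, rfl⟩⟩)), zero_tmul]
  have hcounit : ∀ x : A, TensorProduct.rid R A ((counit (R := R) (A := A)).lTensor A (comul x)) = x := by
    intro x
    rw [lTensor_counit_comul]
    simp
  have hle : N ≤ N0 := by
    intro x hx
    have hex : Function.Exact (N0.subtype.rTensor A) (N0.mkQ.rTensor A) :=
      Module.Flat.rTensor_exact A (LinearMap.exact_subtype_mkQ N0)
    obtain ⟨z, hz⟩ := (hex (comul x)).1 hx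
    have h2 := LinearMap.congr_fun (rid_counit_comp_rTensor (A := A) N0.subtype) z
    simp only [LinearMap.comp_apply, LinearEquiv.coe_coe] at h2
    rw [hz, hcounit] at h2
    rw [h2]
    exact SetLike.coe_mem _
  have hNfg : N.FG := by
    haveI : Module.Finite R N0 := Module.Finite.of_fg hN0
    haveI : IsNoetherian R N0 := isNoetherian_of_isNoetherianRing_of_finite R N0
    exact hN0.of_le hle
  have hinj : Function.Injective (N.subtype.rTensor A) :=
    Module.Flat.rTensor_preserves_injective_linearMap _ N.subtype_injective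
  have hmem : ∀ x : N, comul (R := R) (x : A) ∈ LinearMap.range (N.subtype.rTensor A) := by
    intro x
    refine ((Module.Flat.rTensor_exact A (LinearMap.exact_subtype_ker_map ψ)) _).1 ?_
    show (N0.mkQ.rTensor A ∘ₗ comul).rTensor A (comul (x : A)) = 0
    rw [LinearMap.rTensor_comp, LinearMap.comp_apply,
      show (comul (R := R) (A := A)).rTensor A (comul (x : A)) =
        (TensorProduct.assoc R A A A).symm ((comul (R := R) (A := A)).lTensor A (comul (x : A))) from
        ((TensorProduct.assoc R A A A).symm_apply_apply _).symm.trans (by rw [coassoc_apply])]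
    apply (TensorProduct.assoc R (A ⧸ N0) A A).injective
    have h1 := LinearMap.congr_fun (assoc_comp_rTensor_rTensor (A := A) N0.mkQ)
      ((TensorProduct.assoc R A A A).symm ((comul (R := R) (A := A)).lTensor A (comul (x : A))))
    have h2 := LinearMap.congr_fun (comul_lTensor_comp_rTensor (A := A) N0.mkQ) (comul (x : A))
    simp only [LinearMap.comp_apply, LinearEquiv.coe_coe, LinearEquiv.apply_symm_apply] at h1 h2
    rw [h1, ← h2, show N0.mkQ.rTensor A (comul (x : A)) = 0 from x.2, map_zero, map_zero]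
  let ρ : N →ₗ[R] N ⊗[R] A := (LinearEquiv.ofInjective _ hinj).symm.toLinearMap ∘ₗ
    ((comul ∘ₗ N.subtype).codRestrict _ hmem)
  have hρ : N.subtype.rTensor A ∘ₗ ρ = comul ∘ₗ N.subtype := by
    refine LinearMap.ext fun x => ?_
    show N.subtype.rTensor A ((LinearEquiv.ofInjective _ hinj).symm ⟨comul (x : A), hmem x⟩) = _
    rw [← LinearEquiv.ofInjective_apply (h := hinj), LinearEquiv.apply_symm_apply]
    rfl
  refine ⟨N, ρ, hNfg, hFN, hρ, ⟨?_, ?_⟩⟩
  · have hinj2 : Function.Injective (N.subtype.rTensor (A ⊗[R] A)) :=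
      Module.Flat.rTensor_preserves_injective_linearMap _ N.subtype_injective
    refine (LinearMap.cancel_left hinj2).1 ?_
    rw [← LinearMap.comp_assoc, ← assoc_comp_rTensor_rTensor, LinearMap.comp_assoc,
      ← LinearMap.comp_assoc (f := ρ), ← LinearMap.rTensor_comp, hρ, LinearMap.rTensor_comp,
      LinearMap.comp_assoc, hρ, ← LinearMap.comp_assoc (f := ρ), ← comul_lTensor_comp_rTensor,
      LinearMap.comp_assoc, hρ]
    refine LinearMap.ext fun x => ?_
    exact coassoc_apply (x : A)
  · refine (LinearMap.cancel_left (f := N.subtype) N.subtype_injective).1 ?_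
    rw [LinearMap.comp_id, ← LinearMap.comp_assoc (f := ρ), ← LinearMap.comp_assoc,
      ← rid_counit_comp_rTensor, LinearMap.comp_assoc, hρ]
    exact LinearMap.ext fun x => hcounit (x : A)

/-- A coaction on a finite module extends to the double dual, in dimension at most two. -/
theorem exists_coaction_bidual {N : Type u} [AddCommGroup N] [Module R N] [Module.Finite R N]
    [Module.Projective R (Module.Dual R N)] {ρ : N →ₗ[R] N ⊗[R] A} (hρ : IsCoaction ρ) :
    ∃ σ : Module.Dual R (Module.Dual R N) →ₗ[R] Module.Dual R (Module.Dual R N) ⊗[R] A,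
      σ ∘ₗ Module.Dual.eval R N = (Module.Dual.eval R N).rTensor A ∘ₗ ρ ∧ IsCoaction σ := by
  let η := Module.Dual.eval R N
  obtain ⟨σ, hσ⟩ := exists_extend (T := Module.Dual R (Module.Dual R N) ⊗[R] A) (η.rTensor A ∘ₗ ρ)
  refine ⟨σ, hσ, ⟨extend_unique (T := Module.Dual R (Module.Dual R N) ⊗[R] (A ⊗[R] A)) ?_,
    extend_unique (T := Module.Dual R (Module.Dual R N)) ?_⟩⟩
  · refine LinearMap.ext fun x => ?_
    have h0 : σ (η x) = η.rTensor A (ρ x) := LinearMap.congr_fun hσ x
    have h1 : σ.rTensor A (η.rTensor A (ρ x)) = (η.rTensor A).rTensor A (ρ.rTensor A (ρ x)) := by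
      have e : σ.rTensor A ∘ₗ η.rTensor A = (η.rTensor A).rTensor A ∘ₗ ρ.rTensor A := by
        rw [← LinearMap.rTensor_comp, hσ, LinearMap.rTensor_comp]
      exact LinearMap.congr_fun e (ρ x)
    have h3 := LinearMap.congr_fun (assoc_comp_rTensor_rTensor (A := A) η) (ρ.rTensor A (ρ x))
    have h4 := LinearMap.congr_fun (comul_lTensor_comp_rTensor (A := A) η) (ρ x)
    have h5 := LinearMap.congr_fun hρ.coassoc x
    simp only [LinearMap.comp_apply, LinearEquiv.coe_coe] at h3 h4 h5 ⊢
    rw [h0, h1, h3, h4, h5]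
  · refine LinearMap.ext fun x => ?_
    have h0 : σ (η x) = η.rTensor A (ρ x) := LinearMap.congr_fun hσ x
    have h2 := LinearMap.congr_fun (rid_counit_comp_rTensor (A := A) η) (ρ x)
    have h3 := LinearMap.congr_fun hρ.counit x
    simp only [LinearMap.comp_apply, LinearEquiv.coe_coe, LinearMap.id_apply] at h2 h3 ⊢
    rw [h0, h2, h3]

end Coalg

section Bialg

variable [CommRing A] [Bialgebra R A] {P : Type u} [AddCommGroup P] [Module R P]

/-- A coaction on a direct summand, extended by the trivial coaction on the complement. -/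
theorem exists_coaction_free {V : Type u} [AddCommGroup V] [Module R V] {σ : P →ₗ[R] P ⊗[R] A}
    (hσ : IsCoaction σ) (i : P →ₗ[R] V) (r : V →ₗ[R] P) (hri : r ∘ₗ i = LinearMap.id) :
    ∃ τ : V →ₗ[R] V ⊗[R] A, τ ∘ₗ i = i.rTensor A ∘ₗ σ ∧ IsCoaction τ := by
  let one : V →ₗ[R] V ⊗[R] A := (TensorProduct.mk R V A).flip 1
  let τ : V →ₗ[R] V ⊗[R] A := i.rTensor A ∘ₗ σ ∘ₗ r + one ∘ₗ (LinearMap.id - i ∘ₗ r)
  have hri' : ∀ x, r (i x) = x := fun x => LinearMap.congr_fun hri x
  have hτi : τ ∘ₗ i = i.rTensor A ∘ₗ σ := LinearMap.ext fun x => by simp [τ, one, hri']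
  refine ⟨τ, hτi, ⟨LinearMap.ext fun v => ?_, LinearMap.ext fun v => ?_⟩⟩
  · obtain ⟨p, w, rfl, hw⟩ : ∃ p w, v = i p + w ∧ r w = 0 :=
      ⟨r v, v - i (r v), by abel, by simp [hri']⟩
    have hτw : τ w = w ⊗ₜ 1 := by simp [τ, one, hw]
    have h1 : ∀ x, τ (i x) = i.rTensor A (σ x) := fun x => LinearMap.congr_fun hτi x
    simp only [LinearMap.comp_apply, LinearEquiv.coe_coe, map_add, hτw, h1,
      LinearMap.rTensor_tmul, LinearMap.lTensor_tmul, Bialgebra.comul_one]
    congr 1
    have h2 : τ.rTensor A (i.rTensor A (σ p)) = (i.rTensor A).rTensor A (σ.rTensor A (σ p)) := by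
      rw [← LinearMap.comp_apply, ← LinearMap.rTensor_comp, hτi, LinearMap.rTensor_comp,
        LinearMap.comp_apply]
    have h3 := LinearMap.congr_fun (assoc_comp_rTensor_rTensor (A := A) i) (σ.rTensor A (σ p))
    have h4 := LinearMap.congr_fun (comul_lTensor_comp_rTensor (A := A) i) (σ p)
    have h5 := LinearMap.congr_fun hσ.coassoc p
    simp only [LinearMap.comp_apply, LinearEquiv.coe_coe] at h3 h4 h5
    rw [h2, h3, h4, h5]
  · obtain ⟨p, w, rfl, hw⟩ : ∃ p w, v = i p + w ∧ r w = 0 :=
      ⟨r v, v - i (r v), by abel, by simp [hri']⟩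
    have hτw : τ w = w ⊗ₜ 1 := by simp [τ, one, hw]
    have h1 : ∀ x, τ (i x) = i.rTensor A (σ x) := fun x => LinearMap.congr_fun hτi x
    have h2 := LinearMap.congr_fun (rid_counit_comp_rTensor (A := A) i) (σ p)
    have h3 := LinearMap.congr_fun hσ.counit p
    simp only [LinearMap.comp_apply, LinearEquiv.coe_coe, LinearMap.id_apply] at h2 h3
    simp [map_add, hτw, h1, h2, h3, Bialgebra.counit_one]

variable {n : ℕ}

/-- The `i`-th coefficient. -/
noncomputable def coef (T : Type u) [AddCommGroup T] [Module R T] (i : Fin n) :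
    (Fin n → R) ⊗[R] T →ₗ[R] T :=
  (TensorProduct.lid R T).toLinearMap ∘ₗ (LinearMap.proj i).rTensor T

theorem sum_coef {T : Type u} [AddCommGroup T] [Module R T] (z : (Fin n → R) ⊗[R] T) :
    ∑ i, (Pi.single i 1 : Fin n → R) ⊗ₜ[R] coef T i z = z := by
  induction z using TensorProduct.induction_on with
  | zero => simp
  | tmul v t =>
    simp only [coef, LinearMap.comp_apply, LinearMap.rTensor_tmul, LinearEquiv.coe_coe,
      TensorProduct.lid_tmul, LinearMap.proj_apply, ← TensorProduct.smul_tmul]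
    rw [← TensorProduct.sum_tmul, ← pi_eq_sum_univ' v]
  | add x y hx hy => simp only [map_add, TensorProduct.tmul_add, Finset.sum_add_distrib, hx, hy]

end Bialg

section Matrix

variable [CommRing A] [HopfAlgebra R A] {n : ℕ}

/-- The matrix of coefficients of a coaction on a free module. -/
noncomputable def coefMatrix (τ : (Fin n → R) →ₗ[R] (Fin n → R) ⊗[R] A) : Matrix (Fin n) (Fin n) A :=
  fun i j => coef A i (τ (Pi.single j 1))

variable {τ : (Fin n → R) →ₗ[R] (Fin n → R) ⊗[R] A}

theorem coef_assoc_tmul (i : Fin n) (z : (Fin n → R) ⊗[R] A) (b : A) :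
    coef (A ⊗[R] A) i (TensorProduct.assoc R (Fin n → R) A A (z ⊗ₜ b)) = coef A i z ⊗ₜ b := by
  induction z using TensorProduct.induction_on with
  | zero => simp
  | tmul v a => simp [coef, TensorProduct.smul_tmul']
  | add x y hx hy => simp only [TensorProduct.add_tmul, map_add, hx, hy]

theorem coef_lTensor {T T' : Type u} [AddCommGroup T] [Module R T] [AddCommGroup T'] [Module R T']
    (g : T →ₗ[R] T') (i : Fin n) (z : (Fin n → R) ⊗[R] T) :
    coef T' i (g.lTensor _ z) = g (coef T i z) := by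
  induction z using TensorProduct.induction_on with
  | zero => simp
  | tmul v a => simp [coef]
  | add x y hx hy => simp only [map_add, hx, hy]

theorem comul_coefMatrix (hτ : IsCoaction τ) (i j : Fin n) :
    comul (R := R) (coefMatrix τ i j) = ∑ l, coefMatrix τ i l ⊗ₜ[R] coefMatrix τ l j := by
  have h := congrArg (coef (A ⊗[R] A) i) (LinearMap.congr_fun hτ.coassoc (Pi.single j 1))
  simp only [LinearMap.comp_apply, LinearEquiv.coe_coe] at h
  rw [coef_lTensor, ← sum_coef (τ (Pi.single j 1))] at h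
  simp only [map_sum, LinearMap.rTensor_tmul, coef_assoc_tmul] at h
  refine (h.trans ?_).symm
  rw [← map_sum, ← map_sum, sum_coef]
  rfl

theorem counit_coefMatrix (hτ : IsCoaction τ) (i j : Fin n) :
    counit (R := R) (coefMatrix τ i j) = if i = j then 1 else 0 := by
  have h := LinearMap.congr_fun hτ.counit (Pi.single j 1)
  simp only [LinearMap.comp_apply, LinearEquiv.coe_coe, LinearMap.id_apply] at h
  have h2 : ∀ z : (Fin n → R) ⊗[R] A,
      TensorProduct.rid R (Fin n → R) ((counit (R := R) (A := A)).lTensor _ z) i =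
        counit (R := R) (coef A i z) := by
    intro z
    induction z using TensorProduct.induction_on with
    | zero => simp
    | tmul v a => simp [coef, mul_comm]
    | add x y hx hy => simp only [map_add, Pi.add_apply, hx, hy]
  rw [coefMatrix, ← h2, h, Pi.single_apply]

theorem exists_mul_det_coefMatrix (hτ : IsCoaction τ) : ∃ u : A, u * (coefMatrix τ).det = 1 := by
  refine ⟨((coefMatrix τ).map (HopfAlgebra.antipode R (A := A))).det, ?_⟩
  rw [← Matrix.det_mul]
  refine (congrArg Matrix.det (?_ : _ = (1 : Matrix (Fin n) (Fin n) A))).trans Matrix.det_one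
  refine Matrix.ext fun i j => ?_
  have h := HopfAlgebra.mul_antipode_rTensor_comul_apply (R := R) (coefMatrix τ i j)
  rw [comul_coefMatrix hτ, counit_coefMatrix hτ] at h
  simp only [map_sum, LinearMap.rTensor_tmul, LinearMap.mul'_apply] at h
  rw [Matrix.mul_apply]
  simp only [Matrix.map_apply]
  rw [h, Matrix.one_apply]
  split_ifs <;> simp

theorem lid_rTensor_mem_adjoin (e : (Fin n → R) →ₗ[R] R) (v : Fin n → R) (u : A) :
    TensorProduct.lid R A (e.rTensor A (τ v)) ∈
      Algebra.adjoin R (Set.range (fun p : Fin n × Fin n => coefMatrix τ p.1 p.2) ∪ {u}) := by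
  let S := Algebra.adjoin R (Set.range (fun p : Fin n × Fin n => coefMatrix τ p.1 p.2) ∪ {u})
  show _ ∈ S
  rw [pi_eq_sum_univ' v, map_sum, map_sum, map_sum]
  refine sum_mem fun j _ => ?_
  rw [map_smul, map_smul, map_smul]
  refine S.smul_mem ?_ _
  rw [← sum_coef (τ (Pi.single j 1)), map_sum, map_sum]
  refine sum_mem fun i _ => ?_
  rw [LinearMap.rTensor_tmul, TensorProduct.lid_tmul]
  exact S.smul_mem (Algebra.subset_adjoin (Or.inl ⟨(i, j), rfl⟩)) _

end Matrix

theorem exists_matrix_corep [IsRegularRing R] (hdim : ringKrullDim R ≤ 2) [CommRing A]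
    [HopfAlgebra R A] [Module.Flat R A] (F : Finset A) :
    ∃ (d : ℕ) (a : Matrix (Fin d) (Fin d) A),
      (∀ i j, comul (R := R) (a i j) = ∑ l, a i l ⊗ₜ[R] a l j) ∧
      (∀ i j, counit (R := R) (a i j) = if i = j then 1 else 0) ∧
      ∃ u : A, u * a.det = 1 ∧
        (↑F : Set A) ⊆ Algebra.adjoin R (Set.range (fun p : Fin d × Fin d => a p.1 p.2) ∪ {u}) := by
  obtain ⟨N, ρ, hfg, hFN, hρι, hρ⟩ := exists_subcomodule (R := R) F
  haveI : Module.Finite R N := Module.Finite.of_fg hfg
  haveI := projective_dual hdim N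
  obtain ⟨σ, hση, hσ⟩ := exists_coaction_bidual hρ
  let P := Module.Dual R (Module.Dual R N)
  obtain ⟨d, r, hr⟩ := Module.Finite.exists_fin' R P
  obtain ⟨i, hi⟩ := Module.projective_lifting_property r LinearMap.id hr
  obtain ⟨τ, hτi, hτ⟩ := exists_coaction_free hσ i r hi
  obtain ⟨u, hu⟩ := exists_mul_det_coefMatrix hτ
  refine ⟨d, coefMatrix τ, comul_coefMatrix hτ, counit_coefMatrix hτ, u, hu, fun x hx => ?_⟩
  obtain ⟨eP, heP⟩ := exists_extend (N := N) (T := R) ((counit (R := R)).comp N.subtype)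
  let m : N := ⟨x, hFN hx⟩
  have key : TensorProduct.lid R A ((eP ∘ₗ r).rTensor A (τ (i (Module.Dual.eval R N m)))) = x := by
    rw [← LinearMap.comp_apply τ i, hτi, LinearMap.comp_apply,
      ← LinearMap.comp_apply ((eP ∘ₗ r).rTensor A) (i.rTensor A), ← LinearMap.rTensor_comp,
      LinearMap.comp_assoc, hi, LinearMap.comp_id, ← LinearMap.comp_apply σ, hση,
      LinearMap.comp_apply, ← LinearMap.comp_apply (eP.rTensor A), ← LinearMap.rTensor_comp, heP,
      LinearMap.rTensor_comp, LinearMap.comp_apply,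
      ← LinearMap.comp_apply (N.subtype.rTensor A), hρι, LinearMap.comp_apply, rTensor_counit_comul]
    simp [m]
  rw [← key]
  exact lid_rTensor_mem_adjoin _ _ u

end Groth.Agent.H7Hopf
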