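import Mathlib
import Groth.Agent.H05EGA4.Regular
import Groth.Agent.H05EGA4.GlobalDim

/-!
The reflexive hull of a finite module over a regular ring of dimension at most two.
-/

set_option autoImplicit false
set_option linter.style.haveILetI false
universe u

open CategoryTheory TensorProduct

namespace Groth.Agent.H7Hopf

variable {R : Type u} [CommRing R]

theorem hasProjectiveDimensionLE_two [IsRegularRing R] (hdim : ringKrullDim R ≤ 2) (M : Type u)
    [AddCommGroup M] [Module R M] [Module.Finite R M] :
    HasProjectiveDimensionLE (ModuleCat.of R M) 2 := by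
  refine (ModuleCat.hasProjectiveDimensionLE_iff_forall_maximalSpectrum 2 (ModuleCat.of R M)).2
    fun m => ?_
  haveI : IsRegularLocalRing (Localization.AtPrime m.1) :=
    isRegularRing_iff.1 (inferInstance : IsRegularRing R) m.1
  obtain ⟨e, he, hk⟩ := H05EGA4.exists_pd_residueField (Localization.AtPrime m.1)
  have hle : e ≤ 2 := by
    have h1 : ringKrullDim (Localization.AtPrime m.1) ≤ 2 :=
      (IsLocalization.AtPrime.ringKrullDim_eq_height m.1 (Localization.AtPrime m.1)).le.trans
        (Ideal.height_le_ringKrullDim_of_isPrime.trans hdim)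
    rw [he] at h1
    exact_mod_cast h1
  haveI := H05EGA4.hasProjectiveDimensionLT_of_residueField e hk
    ((ModuleCat.of R M).localizedModule m.1.primeCompl)
  exact hasProjectiveDimensionLT_of_ge _ (e + 1) (2 + 1) (by omega)

/-- Kernels of maps of finite projective modules are projective in dimension at most two. -/
theorem projective_ker [IsRegularRing R] (hdim : ringKrullDim R ≤ 2) {V W : Type u} [AddCommGroup V]
    [Module R V] [Module.Projective R V] [AddCommGroup W] [Module R W] [Module.Finite R W]
    [Module.Projective R W] (φ : V →ₗ[R] W) : Module.Projective R (LinearMap.ker φ) := by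
  let ψ := (LinearMap.range φ).mkQ
  have hs₂ := LinearMap.shortExact_shortComplexKer (f := ψ) (Submodule.mkQ_surjective _)
  let φ' : V →ₗ[R] LinearMap.ker ψ := φ.codRestrict _ fun v => by simp [ψ]
  have hφ' : Function.Surjective φ' := by
    rintro ⟨w, hw⟩
    obtain ⟨v, rfl⟩ : w ∈ LinearMap.range φ := by simpa [ψ] using hw
    exact ⟨v, rfl⟩
  have hs₁ := LinearMap.shortExact_shortComplexKer (f := φ') hφ'
  have hker : LinearMap.ker φ' = LinearMap.ker φ := LinearMap.ker_codRestrict _ _ _
  have hW : Projective ψ.shortComplexKer.X₂ :=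
    (IsProjective.iff_projective _).1 (inferInstanceAs (Module.Projective R W))
  have hV : Projective φ'.shortComplexKer.X₂ :=
    (IsProjective.iff_projective _).1 (inferInstanceAs (Module.Projective R V))
  have h1 : HasProjectiveDimensionLT ψ.shortComplexKer.X₁ 2 :=
    (hs₂.hasProjectiveDimensionLT_X₃_iff 1 hW).1
      (hasProjectiveDimensionLE_two hdim (W ⧸ LinearMap.range φ))
  have h2 : HasProjectiveDimensionLT φ'.shortComplexKer.X₁ 1 :=
    (hs₁.hasProjectiveDimensionLT_X₃_iff 0 hV).1 h1
  have h3 : Module.Projective R (LinearMap.ker φ') :=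
    (IsProjective.iff_projective (LinearMap.ker φ' : Submodule R V)).2
      (projective_iff_hasProjectiveDimensionLT_one.2 h2)
  exact Module.Projective.of_equiv (LinearEquiv.ofEq _ _ hker)

/-- Duals of finite modules are projective in dimension at most two. -/
theorem projective_dual [IsRegularRing R] (hdim : ringKrullDim R ≤ 2) (N : Type u) [AddCommGroup N]
    [Module R N] [Module.Finite R N] : Module.Projective R (Module.Dual R N) := by
  obtain ⟨n, f, hf⟩ := Module.Finite.exists_fin' R N
  obtain ⟨m, g, hg⟩ := Module.Finite.exists_fin' R (LinearMap.ker f)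
  let φ : Module.Dual R (Fin n → R) →ₗ[R] Module.Dual R (Fin m → R) :=
    ((LinearMap.ker f).subtype ∘ₗ g).dualMap
  haveI := projective_ker hdim φ
  have hinj : Function.Injective f.dualMap := LinearMap.dualMap_injective_of_surjective hf
  have hrange : LinearMap.range f.dualMap = LinearMap.ker φ := by
    apply le_antisymm
    · rintro _ ⟨x, rfl⟩
      refine LinearMap.mem_ker.2 (LinearMap.ext fun y => ?_)
      show x (f (g y : Fin n → R)) = 0
      rw [LinearMap.mem_ker.1 (g y).2, map_zero]
    · intro x hx
      have hle : LinearMap.ker f ≤ LinearMap.ker x := by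
        intro z hz
        obtain ⟨y, hy⟩ := hg ⟨z, hz⟩
        have := LinearMap.congr_fun (LinearMap.mem_ker.1 hx) y
        simpa [φ, hy] using this
      refine ⟨(LinearMap.ker f).liftQ x hle ∘ₗ (f.quotKerEquivOfSurjective hf).symm.toLinearMap,
        LinearMap.ext fun z => ?_⟩
      show (LinearMap.ker f).liftQ x hle ((f.quotKerEquivOfSurjective hf).symm (f z)) = x z
      rw [LinearMap.quotKerEquivOfSurjective_symm_apply, Submodule.liftQ_apply]
  exact Module.Projective.of_equiv ((LinearEquiv.ofInjective _ hinj).trans (LinearEquiv.ofEq _ _ hrange)).symm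

variable [IsNoetherianRing R] {N : Type u} [AddCommGroup N] [Module R N] [Module.Finite R N]
  {T : Type u} [AddCommGroup T] [Module R T] [Module.Flat R T]

/-- Maps to flat modules extend to the double dual. -/
theorem exists_extend (t : N →ₗ[R] T) :
    ∃ g : Module.Dual R (Module.Dual R N) →ₗ[R] T, g ∘ₗ Module.Dual.eval R N = t := by
  haveI := Module.finitePresentation_of_finite R N
  obtain ⟨k, b, a, rfl⟩ := Module.Flat.exists_factorization_of_finitePresentation t
  refine ⟨a ∘ₗ (Module.evalEquiv R (Fin k →₀ R)).symm.toLinearMap ∘ₗ b.dualMap.dualMap, ?_⟩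
  refine LinearMap.ext fun x => congrArg a ?_
  show (Module.evalEquiv R (Fin k →₀ R)).symm (b.dualMap.dualMap (Module.Dual.eval R N x)) = b x
  rw [LinearEquiv.symm_apply_eq]
  rfl

/-- ... uniquely, when the dual is projective. -/
theorem extend_unique [Module.Projective R (Module.Dual R N)]
    {g g' : Module.Dual R (Module.Dual R N) →ₗ[R] T}
    (h : g ∘ₗ Module.Dual.eval R N = g' ∘ₗ Module.Dual.eval R N) : g = g' := by
  rw [← sub_eq_zero]
  set h0 := g - g' with hh0
  haveI : Module.FinitePresentation R (Module.Dual R (Module.Dual R N)) :=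
    Module.finitePresentation_of_finite R _
  obtain ⟨k, b, a, hab⟩ := Module.Flat.exists_factorization_of_finitePresentation h0
  have h1 : a ∘ₗ (b ∘ₗ Module.Dual.eval R N) = 0 := by
    rw [← LinearMap.comp_assoc, ← hab, hh0, LinearMap.sub_comp, h, sub_self]
  obtain ⟨m, c, d, had, hc⟩ := Module.Flat.exists_factorization_of_comp_eq_zero_of_free h1
  suffices hcb : c ∘ₗ b = 0 by rw [hab, had, LinearMap.comp_assoc, hcb, LinearMap.comp_zero]
  refine LinearMap.ext fun φ => Finsupp.ext fun i => ?_
  obtain ⟨x, hx⟩ := (Module.bijective_dual_eval R (Module.Dual R N)).2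
    (Finsupp.lapply i ∘ₗ c ∘ₗ b)
  have hx0 : x = 0 := LinearMap.ext fun n => by
    have h2 := LinearMap.congr_fun hx (Module.Dual.eval R N n)
    have h3 := LinearMap.congr_fun hc n
    simp only [LinearMap.comp_apply, LinearMap.zero_apply] at h2 h3
    rw [h3] at h2
    simpa using h2
  have h4 := LinearMap.congr_fun hx φ
  rw [hx0] at h4
  simpa using h4.symm

end Groth.Agent.H7Hopf
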